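import Groth.Agent.DiffOps.LocExt
import Groth.Agent.PPSheaf.Comp
import Groth.Agent.QCoh.FT

/-! Differential operators on an affine scheme from operators on global sections. -/

set_option autoImplicit false
set_option linter.style.haveILetI false
set_option backward.isDefEq.respectTransparency false
set_option backward.isDefEq.respectTransparency.types false
set_option maxHeartbeats 1000000

universe u

open CategoryTheory AlgebraicGeometry TopologicalSpace Opposite

namespace Groth.Agent.DiffOps.Affine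

variable {X S : Scheme.{u}} (f : X ⟶ S)

/-- Global functions on the base acting on an open upstairs. -/
noncomputable abbrev algOn (W : X.Opens) : Algebra Γ(S, ⊤) Γ(X, W) :=
  ((X.presheaf.map (homOfLE (le_top (a := W))).op).hom.comp f.appTop.hom).toAlgebra

/-- Sections as a module over the global functions upstairs. -/
noncomputable abbrev topMod (F : X.Modules) (W : X.Opens) : Module Γ(X, ⊤) Γ(F, W) :=
  Module.compHom _ (X.presheaf.map (homOfLE (le_top (a := W))).op).hom

/-- Sections as a module over the functions on the base. -/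
noncomputable abbrev baseMod (F : X.Modules) (W : X.Opens) : Module Γ(S, ⊤) Γ(F, W) :=
  Module.compHom _ ((X.presheaf.map (homOfLE (le_top (a := W))).op).hom.comp f.appTop.hom)

theorem tower (F : X.Modules) (W : X.Opens) :
    letI := f.appTop.hom.toAlgebra
    letI := topMod F W
    letI := baseMod f F W
    IsScalarTower Γ(S, ⊤) Γ(X, ⊤) Γ(F, W) := by
  letI := f.appTop.hom.toAlgebra
  letI := topMod F W
  letI := baseMod f F W
  exact .of_algebraMap_smul fun _ _ => rfl

theorem bijective_smul (G : X.Modules) (g : Γ(X, ⊤)) {W : X.Opens} (hW : W ≤ X.basicOpen g)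
    (s : Submonoid.powers g) :
    letI := topMod G W
    Function.Bijective fun x : Γ(G, W) => (s : Γ(X, ⊤)) • x := by
  obtain ⟨_, n, rfl⟩ := s
  have hu : IsUnit (X.presheaf.map (homOfLE (le_top (a := W))).op (g ^ n)) := by
    rw [map_pow]
    refine IsUnit.pow n ?_
    have h := (X.toRingedSpace.isUnit_res_basicOpen g).map (X.presheaf.map (homOfLE hW).op).hom
    rw [← show (X.presheaf.map (homOfLE hW).op) (X.presheaf.map (homOfLE (X.basicOpen_le g)).op g) =
      X.presheaf.map (homOfLE (le_top (a := W))).op g by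
      rw [← CommRingCat.comp_apply, ← Functor.map_comp]; rfl]
    exact h
  refine ⟨fun x y hxy => hu.smul_left_cancel.1 hxy, fun y => ⟨hu.unit⁻¹.val • y, ?_⟩⟩
  show X.presheaf.map (homOfLE (le_top (a := W))).op (g ^ n) • hu.unit⁻¹.val • y = y
  rw [← mul_smul, IsUnit.mul_val_inv, one_smul]

/-- Two sections agreeing locally are equal. -/
theorem eq_of_locally {M : X.Modules} (U : X.Opens) (a b : Γ(M, U))
    (h : ∀ x ∈ U, ∃ (V : X.Opens) (i : V ⟶ U), x ∈ V ∧ M.presheaf.map i.op a = M.presheaf.map i.op b) : a = b :=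
  sub_eq_zero.1 (QCoh.eq_zero_of_locally U _ fun x hx => by
    obtain ⟨V, i, hV, he⟩ := h x hx
    exact ⟨V, i, hV, by rw [map_sub, he, sub_self]⟩)

variable (F G : X.Modules) (k : ℕ) (D' : Γ(F, ⊤) →+ Γ(G, ⊤))

/-- A lift of the operator to a basic open. -/
def IsLift (g : Γ(X, ⊤)) (E : Γ(F, X.basicOpen g) →+ Γ(G, X.basicOpen g)) : Prop :=
  letI := f.appTop.hom.toAlgebra
  letI := topMod F (X.basicOpen g)
  letI := topMod G (X.basicOpen g)
  letI := baseMod f F (X.basicOpen g)
  letI := baseMod f G (X.basicOpen g)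
  haveI := tower f F (X.basicOpen g)
  haveI := tower f G (X.basicOpen g)
  (∀ m, E (F.presheaf.map (homOfLE (le_top (a := X.basicOpen g))).op m) =
      G.presheaf.map (homOfLE (le_top (a := X.basicOpen g))).op (D' m)) ∧
    ∃ E' : Γ(F, X.basicOpen g) →ₗ[Γ(S, ⊤)] Γ(G, X.basicOpen g), (∀ x, E' x = E x) ∧
      Diff16.IsDiffOpLE Γ(S, ⊤) Γ(X, ⊤) Γ(F, X.basicOpen g) Γ(G, X.basicOpen g) k E'

/-- Restriction as a linear map over the global functions. -/
noncomputable def resL (H : X.Modules) {V W : X.Opens} (h : W ≤ V) :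
    letI := topMod H V
    letI := topMod H W
    Γ(H, V) →ₗ[Γ(X, ⊤)] Γ(H, W) :=
  letI := topMod H V
  letI := topMod H W
  { toFun := H.presheaf.map (homOfLE h).op
    map_add' := map_add (H.presheaf.map (homOfLE h).op).hom
    map_smul' := fun r x => by
      refine (QCoh.map_smul' (homOfLE h) _ _).trans ?_
      show X.presheaf.map (homOfLE h).op (X.presheaf.map (homOfLE (le_top (a := V))).op r) • (H.presheaf.map (homOfLE h).op x : Γ(H, W)) =
        X.presheaf.map (homOfLE (le_top (a := W))).op r • (H.presheaf.map (homOfLE h).op x : Γ(H, W))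
      rw [← CommRingCat.comp_apply, ← Functor.map_comp]
      rfl }

variable [IsAffine X]

theorem isLocalizedModule_res (hF : Coh.IsQCoh F) (g : Γ(X, ⊤)) :
    letI := topMod F ⊤
    letI := topMod F (X.basicOpen g)
    IsLocalizedModule (Submonoid.powers g) (resL F (le_top (a := X.basicOpen g))) := by
  have h := QCoh.isLocalizedModule_basicRes g hF (isAffineOpen_top X)
  have he : ∀ (r : Γ(X, ⊤)) (x : Γ(F, ⊤)), X.presheaf.map (homOfLE (le_top (a := (⊤ : X.Opens)))).op r • x = r • x := by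
    intro r x
    rw [Subsingleton.elim (homOfLE (le_top (a := (⊤ : X.Opens)))) (𝟙 _), op_id, CategoryTheory.Functor.map_id]
    rfl
  letI := topMod F ⊤
  letI := topMod F (X.basicOpen g)
  refine ⟨fun s => h.map_units s, fun y => ?_, fun {x y} hxy => ?_⟩
  · obtain ⟨z, hz⟩ := h.surj y
    exact ⟨z, hz⟩
  · obtain ⟨c, hc⟩ := h.exists_of_eq hxy
    exact ⟨c, (he c.1 x).trans (Eq.trans hc (he c.1 y).symm)⟩

theorem exists_lift (hF : Coh.IsQCoh F)
    (hD' : letI := f.appTop.hom.toAlgebra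
      letI := topMod F ⊤
      letI := topMod G ⊤
      letI := baseMod f F ⊤
      letI := baseMod f G ⊤
      haveI := tower f F ⊤
      haveI := tower f G ⊤
      ∃ D'' : Γ(F, ⊤) →ₗ[Γ(S, ⊤)] Γ(G, ⊤), (∀ x, D'' x = D' x) ∧
        Diff16.IsDiffOpLE Γ(S, ⊤) Γ(X, ⊤) Γ(F, ⊤) Γ(G, ⊤) k D'')
    (g : Γ(X, ⊤)) : ∃ E, IsLift f F G k D' g E := by
  letI := f.appTop.hom.toAlgebra
  letI := topMod F ⊤
  letI := topMod G ⊤
  letI := topMod F (X.basicOpen g)
  letI := topMod G (X.basicOpen g)
  letI := baseMod f F ⊤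
  letI := baseMod f G ⊤
  letI := baseMod f F (X.basicOpen g)
  letI := baseMod f G (X.basicOpen g)
  haveI := tower f F ⊤
  haveI := tower f G ⊤
  haveI := tower f F (X.basicOpen g)
  haveI := tower f G (X.basicOpen g)
  haveI := isLocalizedModule_res F hF g
  obtain ⟨D'', he, hd⟩ := hD'
  have h1 := isDiffOpLE_comp hd (isDiffOpLE_restrictScalars (A := Γ(S, ⊤)) (resL G (le_top (a := X.basicOpen g))))
  rw [add_zero] at h1
  obtain ⟨E', hE, hE'⟩ := exists_localization (Submonoid.powers g) (resL F (le_top (a := X.basicOpen g)))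
    (bijective_smul G g le_rfl) k _ h1
  refine ⟨E'.toAddMonoidHom, fun m => (hE' m).trans ?_, E', fun _ => rfl, hE⟩
  show G.presheaf.map _ (D'' m) = _
  rw [he]

theorem isLift_natural (hF : Coh.IsQCoh F) {g g' : Γ(X, ⊤)} (h : X.basicOpen g' ≤ X.basicOpen g)
    {E : Γ(F, X.basicOpen g) →+ Γ(G, X.basicOpen g)} {E' : Γ(F, X.basicOpen g') →+ Γ(G, X.basicOpen g')}
    (hE : IsLift f F G k D' g E) (hE' : IsLift f F G k D' g' E') (x : Γ(F, X.basicOpen g)) :
    E' (F.presheaf.map (homOfLE h).op x) = G.presheaf.map (homOfLE h).op (E x) := by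
  letI := f.appTop.hom.toAlgebra
  letI := topMod F ⊤
  letI := topMod F (X.basicOpen g)
  letI := topMod G (X.basicOpen g)
  letI := topMod F (X.basicOpen g')
  letI := topMod G (X.basicOpen g')
  letI := baseMod f F ⊤
  letI := baseMod f F (X.basicOpen g)
  letI := baseMod f G (X.basicOpen g)
  letI := baseMod f F (X.basicOpen g')
  letI := baseMod f G (X.basicOpen g')
  haveI := tower f F ⊤
  haveI := tower f F (X.basicOpen g)
  haveI := tower f G (X.basicOpen g)
  haveI := tower f F (X.basicOpen g')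
  haveI := tower f G (X.basicOpen g')
  haveI := isLocalizedModule_res F hF g
  obtain ⟨hc, L, hL, hd⟩ := hE
  obtain ⟨hc', L', hL', hd'⟩ := hE'
  have h1 := isDiffOpLE_comp hd (isDiffOpLE_restrictScalars (A := Γ(S, ⊤)) (resL G h))
  have h2 := isDiffOpLE_comp (isDiffOpLE_restrictScalars (A := Γ(S, ⊤)) (resL F h)) hd'
  rw [add_zero] at h1
  rw [zero_add] at h2
  have h3 := eq_zero_of_comp_localization (Submonoid.powers g) (resL F (le_top (a := X.basicOpen g)))
    (bijective_smul G g h) k _ (isDiffOpLE_sub h2 h1) fun m => by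
      show L' (F.presheaf.map (homOfLE h).op (F.presheaf.map _ m)) -
        G.presheaf.map (homOfLE h).op (L (F.presheaf.map _ m)) = 0
      rw [hL', hL, QCoh.map_map, hc, sub_eq_zero]
      exact (hc' m).trans (QCoh.map_map _ _ _).symm
  have := sub_eq_zero.1 (LinearMap.congr_fun h3 x)
  show E' _ = _
  rw [← hL', ← hL]
  exact this

/-- Operators on global sections of a quasi-coherent module on an affine scheme come from sheaves. -/
theorem exists_op [IsAffine S] (hF : Coh.IsQCoh F)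
    (hD' : letI := f.appTop.hom.toAlgebra
      letI := topMod F ⊤
      letI := topMod G ⊤
      letI := baseMod f F ⊤
      letI := baseMod f G ⊤
      haveI := tower f F ⊤
      haveI := tower f G ⊤
      ∃ D'' : Γ(F, ⊤) →ₗ[Γ(S, ⊤)] Γ(G, ⊤), (∀ x, D'' x = D' x) ∧
        Diff16.IsDiffOpLE Γ(S, ⊤) Γ(X, ⊤) Γ(F, ⊤) Γ(G, ⊤) k D'') :
    ∃ D : F.presheaf ⟶ G.presheaf, PrinPart.IsDiffOpLE f F G k D ∧
      ∀ m : Γ(F, ⊤), D.app (op ⊤) m = D' m := by
  choose E hE using exists_lift f F G k D' hF hD'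
  have hB : Opens.IsBasis (Set.range fun g : Γ(X, ⊤) => X.basicOpen g) := isBasis_basicOpen X
  let α : (inducedFunctor fun g : Γ(X, ⊤) => X.basicOpen g).op ⋙ F.presheaf ⟶
      (inducedFunctor fun g : Γ(X, ⊤) => X.basicOpen g).op ⋙ G.presheaf :=
    { app := fun g => AddCommGrpCat.ofHom (E g.unop)
      naturality := fun g g' i => by
        ext x
        exact isLift_natural f F G k D' hF i.unop.hom.le (hE g.unop) (hE g'.unop) x }
  let D : F.presheaf ⟶ G.presheaf :=
    TopCat.Sheaf.restrictHomEquivHom F.presheaf ⟨G.presheaf, G.isSheaf⟩ hB α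
  have hD : ∀ g x, D.app (op (X.basicOpen g)) x = E g x := fun g x =>
    ConcreteCategory.congr_hom
      (TopCat.Sheaf.extend_hom_app F.presheaf ⟨G.presheaf, G.isSheaf⟩ hB α g) x
  have hnat : ∀ {U V : X.Opens} (h : V ≤ U) (t : Γ(F, U)),
      G.presheaf.map (homOfLE h).op (D.app (op U) t) = D.app (op V) (F.presheaf.map (homOfLE h).op t) :=
    fun h t => (ConcreteCategory.congr_hom (D.naturality (homOfLE h).op) t).symm
  have htop : ∀ m : Γ(F, ⊤), D.app (op ⊤) m = D' m := by
    intro m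
    have h1 : X.basicOpen (1 : Γ(X, ⊤)) = ⊤ := X.basicOpen_of_isUnit isUnit_one
    refine (eq_of_locally (M := G) ⊤ _ _ fun x _ => ⟨X.basicOpen (1 : Γ(X, ⊤)), homOfLE le_top, h1.ge trivial, ?_⟩)
    rw [hnat, hD]
    exact (hE 1).1 m
  refine ⟨D, PPSheaf.isDiffOpLE_of_alt f k D ?_ ?_, htop⟩
  · intro V s U hU t
    refine eq_of_locally (M := G) U _ _ fun x hx => ?_
    obtain ⟨h, hhV, hxh⟩ := (isAffineOpen_top S).exists_basicOpen_le ⟨f x, hU hx⟩ (trivial : f x ∈ (⊤ : S.Opens))
    obtain ⟨g, hg, hxg⟩ := (isAffineOpen_top X).exists_basicOpen_le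
      (⟨x, ⟨hx, hxh⟩⟩ : ↥(U ⊓ f ⁻¹ᵁ S.basicOpen h : X.Opens)) (trivial : x ∈ (⊤ : X.Opens))
    let W := X.basicOpen g
    have hWU : W ≤ U := hg.trans inf_le_left
    refine ⟨W, homOfLE hWU, hxg, ?_⟩
    rw [hnat, QCoh.map_smul', QCoh.map_smul', hnat, hD, hD]
    haveI := (isAffineOpen_top S).isLocalization_basicOpen h
    obtain ⟨a, ⟨_, n, rfl⟩, ha⟩ := IsLocalization.exists_mk'_eq (Submonoid.powers h)
      (S.presheaf.map (homOfLE hhV).op s)
    have ha' : S.presheaf.map (homOfLE hhV).op s * algebraMap Γ(S, ⊤) Γ(S, S.basicOpen h) (h ^ n) =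
        algebraMap Γ(S, ⊤) Γ(S, S.basicOpen h) a := by
      rw [← ha]; exact IsLocalization.mk'_spec _ _ _
    have hWh : W ≤ f ⁻¹ᵁ S.basicOpen h := hg.trans inf_le_right
    let ψ := (f.appLE (S.basicOpen h) W hWh).hom
    have hψ : ∀ r : Γ(S, ⊤), ψ (algebraMap Γ(S, ⊤) Γ(S, S.basicOpen h) r) =
        X.presheaf.map (homOfLE (le_top (a := W))).op (f.appTop r) := fun r => by
      show (S.presheaf.map (homOfLE (S.basicOpen_le h)).op ≫ f.appLE (S.basicOpen h) W hWh) r = _
      rw [Scheme.Hom.map_appLE]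
      rfl
    set c : Γ(X, W) := X.presheaf.map (homOfLE hWU).op (X.presheaf.map (homOfLE hU).op (f.app V s))
    have hc : ψ (S.presheaf.map (homOfLE hhV).op s) = c := by
      show (S.presheaf.map (homOfLE hhV).op ≫ f.appLE (S.basicOpen h) W hWh) s =
        (f.app V ≫ X.presheaf.map (homOfLE hU).op ≫ X.presheaf.map (homOfLE hWU).op) s
      rw [Scheme.Hom.map_appLE, ← Functor.map_comp, Scheme.Hom.app_eq_appLE, Scheme.Hom.appLE_map]
    letI := f.appTop.hom.toAlgebra
    letI := topMod F W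
    letI := topMod G W
    letI := baseMod f F W
    letI := baseMod f G W
    obtain ⟨-, L, hL, -⟩ := hE g
    have key : ∀ (r : Γ(S, ⊤)) (y : Γ(F, W)),
        E g (X.presheaf.map (homOfLE (le_top (a := W))).op (f.appTop r) • y) =
          X.presheaf.map (homOfLE (le_top (a := W))).op (f.appTop r) • E g y := fun r y => by
      rw [← hL, ← hL]; exact L.map_smul r y
    have hu : IsUnit (ψ (algebraMap Γ(S, ⊤) Γ(S, S.basicOpen h) (h ^ n))) :=
      ((IsLocalization.map_units (Γ(S, S.basicOpen h)) (⟨h ^ n, n, rfl⟩ : Submonoid.powers h))).map ψ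
    refine hu.smul_left_cancel.1 ?_
    have hca : c * ψ (algebraMap Γ(S, ⊤) Γ(S, S.basicOpen h) (h ^ n)) =
        ψ (algebraMap Γ(S, ⊤) Γ(S, S.basicOpen h) a) := by rw [← hc, ← map_mul, ha']
    rw [hψ] at hca ⊢
    rw [← key, ← mul_smul, ← mul_smul, mul_comm _ c, hca, hψ]
    exact key _ _
  · intro U a t
    refine eq_of_locally (M := G) U _ _ fun x hx => ?_
    obtain ⟨g, hg, hxg⟩ := (isAffineOpen_top X).exists_basicOpen_le ⟨x, hx⟩ (trivial : x ∈ (⊤ : X.Opens))
    let W := X.basicOpen g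
    refine ⟨W, homOfLE hg, hxg, ?_⟩
    letI := f.appTop.hom.toAlgebra
    letI := topMod F W
    letI := topMod G W
    letI := baseMod f F W
    letI := baseMod f G W
    haveI := tower f F W
    haveI := tower f G W
    letI := algOn f W
    haveI : IsScalarTower Γ(S, ⊤) Γ(X, ⊤) Γ(X, W) := IsScalarTower.of_algebraMap_eq' rfl
    haveI : IsScalarTower Γ(S, ⊤) Γ(X, W) Γ(F, W) := .of_algebraMap_smul fun _ _ => rfl
    haveI : IsScalarTower Γ(S, ⊤) Γ(X, W) Γ(G, W) := .of_algebraMap_smul fun _ _ => rfl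
    haveI : IsScalarTower Γ(X, ⊤) Γ(X, W) Γ(F, W) := .of_algebraMap_smul fun _ _ => rfl
    haveI : IsScalarTower Γ(X, ⊤) Γ(X, W) Γ(G, W) := .of_algebraMap_smul fun _ _ => rfl
    haveI := (isAffineOpen_top X).isLocalization_basicOpen g
    obtain ⟨-, L, hL, hd⟩ := hE g
    have h1 := (isDiffOpLE_iff_altSum k L).1 (isDiffOpLE_extend (C := Γ(X, W)) (Submonoid.powers g) k L hd)
      (fun i => X.presheaf.map (homOfLE hg).op (a i)) (F.presheaf.map (homOfLE hg).op t)
    rw [map_zero, map_sum]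
    refine Eq.trans (Finset.sum_congr rfl fun H _ => ?_) ((Finset.sum_congr (by rw [Finset.powerset_univ]) fun H _ => rfl).trans h1)
    rw [map_zsmul, QCoh.map_smul', hnat, hD, map_prod, QCoh.map_smul', map_prod, ← Finset.compl_eq_univ_sdiff, hL]

end Groth.Agent.DiffOps.Affine
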