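import Mathlib.RingTheory.Kaehler.Basic
import Mathlib.Algebra.BigOperators.Ring.Finset
import Mathlib.Algebra.BigOperators.Group.Finset.Powerset
import Groth.Prelude.Def_DiffOp

/-! Basic theory of differential operators in the sense of `Diff16.IsDiffOpLE`. -/

universe u v

set_option linter.unusedSectionVars false

namespace Groth.Agent.DiffOps

open Diff16 TensorProduct

variable {A B : Type u} [CommRing A] [CommRing B] [Algebra A B]
variable {M N P : Type v} [AddCommGroup M] [Module A M] [Module B M] [IsScalarTower A B M]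
  [AddCommGroup N] [Module A N] [Module B N] [IsScalarTower A B N]
  [AddCommGroup P] [Module A P] [Module B P] [IsScalarTower A B P]

/-- multiplication by a scalar as an `A`-linear map -/
noncomputable abbrev mulB (M : Type v) [AddCommGroup M] [Module A M] [Module B M]
    [IsScalarTower A B M] (b : B) : M →ₗ[A] M :=
  (LinearMap.lsmul B M b).restrictScalars A

@[simp] theorem commutator_apply (D : M →ₗ[A] N) (b : B) (m : M) :
    commutator A B M N D b m = D (b • m) - b • D m := rfl

theorem commutator_add_left (D E : M →ₗ[A] N) (b : B) :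
    commutator A B M N (D + E) b = commutator A B M N D b + commutator A B M N E b := by
  ext m; simp only [commutator_apply, LinearMap.add_apply, smul_add]; abel

theorem commutator_sub_left (D E : M →ₗ[A] N) (b : B) :
    commutator A B M N (D - E) b = commutator A B M N D b - commutator A B M N E b := by
  ext m; simp only [commutator_apply, LinearMap.sub_apply, smul_sub]; abel

theorem commutator_zero_left (b : B) : commutator A B M N (0 : M →ₗ[A] N) b = 0 := by
  ext m; simp

theorem commutator_smul_left (c : B) (D : M →ₗ[A] N) (b : B) :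
    commutator A B M N (c • D) b = c • commutator A B M N D b := by
  ext m; simp only [commutator_apply, LinearMap.smul_apply, smul_sub, smul_comm b c]

theorem commutator_add_right (D : M →ₗ[A] N) (b c : B) :
    commutator A B M N D (b + c) = commutator A B M N D b + commutator A B M N D c := by
  ext m; simp only [commutator_apply, LinearMap.add_apply, add_smul, map_add]; abel

theorem commutator_mul_right (D : M →ₗ[A] N) (b c : B) :
    commutator A B M N D (b * c) =
      commutator A B M N D b ∘ₗ mulB M c + b • commutator A B M N D c := by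
  ext m; simp [mul_smul, smul_sub]

theorem commutator_algebraMap (D : M →ₗ[A] N) (a : A) :
    commutator A B M N D (algebraMap A B a) = 0 := by
  ext m; simp

theorem commutator_one (D : M →ₗ[A] N) : commutator A B M N D 1 = 0 := by
  ext m; simp

theorem commutator_comm (D : M →ₗ[A] N) (b c : B) :
    commutator A B M N (commutator A B M N D b) c =
      commutator A B M N (commutator A B M N D c) b := by
  ext m; simp only [commutator_apply, smul_sub, smul_comm b c]; abel

theorem commutator_comp (D : M →ₗ[A] N) (D' : N →ₗ[A] P) (b : B) :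
    commutator A B M P (D' ∘ₗ D) b =
      commutator A B N P D' b ∘ₗ D + D' ∘ₗ commutator A B M N D b := by
  ext m; simp

theorem isDiffOpLE_zero_iff {D : M →ₗ[A] N} :
    IsDiffOpLE A B M N 0 D ↔ ∀ b : B, commutator A B M N D b = 0 := by
  simp [IsDiffOpLE, LinearMap.ext_iff, sub_eq_zero]

theorem isDiffOpLE_of_eq_zero (n : ℕ) : IsDiffOpLE A B M N n (0 : M →ₗ[A] N) := by
  induction n with
  | zero => simp [IsDiffOpLE]
  | succ n ih => intro b; rw [commutator_zero_left]; exact ih

theorem isDiffOpLE_add {n : ℕ} {D E : M →ₗ[A] N} (hD : IsDiffOpLE A B M N n D)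
    (hE : IsDiffOpLE A B M N n E) : IsDiffOpLE A B M N n (D + E) := by
  induction n generalizing D E with
  | zero => intro b m; simp [hD b m, hE b m]
  | succ n ih => intro b; rw [commutator_add_left]; exact ih (hD b) (hE b)

theorem isDiffOpLE_smul {n : ℕ} {D : M →ₗ[A] N} (c : B) (hD : IsDiffOpLE A B M N n D) :
    IsDiffOpLE A B M N n (c • D) := by
  induction n generalizing D with
  | zero => intro b m; simp [hD b m, smul_comm b c]
  | succ n ih => intro b; rw [commutator_smul_left]; exact ih (hD b)

theorem isDiffOpLE_sub {n : ℕ} {D E : M →ₗ[A] N} (hD : IsDiffOpLE A B M N n D)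
    (hE : IsDiffOpLE A B M N n E) : IsDiffOpLE A B M N n (D - E) := by
  have h : D - E = D + (-1 : B) • E := by simp [sub_eq_add_neg]
  rw [h]; exact isDiffOpLE_add hD (isDiffOpLE_smul _ hE)

theorem isDiffOpLE_sum {n : ℕ} {ι : Type*} (s : Finset ι) {D : ι → M →ₗ[A] N}
    (hD : ∀ i ∈ s, IsDiffOpLE A B M N n (D i)) : IsDiffOpLE A B M N n (∑ i ∈ s, D i) := by
  classical
  induction s using Finset.induction_on with
  | empty => simpa using isDiffOpLE_of_eq_zero n
  | insert i s his ih =>
    rw [Finset.sum_insert his]
    exact isDiffOpLE_add (hD i (Finset.mem_insert_self i s))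
      (ih fun j hj => hD j (Finset.mem_insert_of_mem hj))

theorem isDiffOpLE_succ {n : ℕ} {D : M →ₗ[A] N} (hD : IsDiffOpLE A B M N n D) :
    IsDiffOpLE A B M N (n + 1) D := by
  induction n generalizing D with
  | zero => intro b; rw [(isDiffOpLE_zero_iff.1 hD) b]; exact isDiffOpLE_of_eq_zero 0
  | succ n ih => intro b; exact ih (hD b)

theorem isDiffOpLE_mono {n m : ℕ} (h : n ≤ m) {D : M →ₗ[A] N} (hD : IsDiffOpLE A B M N n D) :
    IsDiffOpLE A B M N m D := by
  induction h with
  | refl => exact hD
  | step _ ih => exact isDiffOpLE_succ ih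

theorem isDiffOpLE_mulB (b : B) : IsDiffOpLE A B M M 0 (mulB M b) := by
  intro c m; simp [smul_comm b c]

theorem isDiffOpLE_restrictScalars (f : M →ₗ[B] N) :
    IsDiffOpLE A B M N 0 (f.restrictScalars A) := by
  intro c m; simp

theorem isDiffOpLE_comp : ∀ {n n' : ℕ} {D : M →ₗ[A] N} {D' : N →ₗ[A] P},
    IsDiffOpLE A B M N n D → IsDiffOpLE A B N P n' D' →
    IsDiffOpLE A B M P (n + n') (D' ∘ₗ D) := by
  suffices H : ∀ (t n n' : ℕ), n + n' = t → ∀ (D : M →ₗ[A] N) (D' : N →ₗ[A] P),
      IsDiffOpLE A B M N n D → IsDiffOpLE A B N P n' D' →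
      IsDiffOpLE A B M P t (D' ∘ₗ D) by
    intro n n' D D' h h'; exact H _ n n' rfl D D' h h'
  intro t
  induction t with
  | zero =>
    intro n n' hs D D' hD hD'
    obtain ⟨rfl, rfl⟩ : n = 0 ∧ n' = 0 := by omega
    intro b m; simp [hD b m, hD' b (D m)]
  | succ t ih =>
    intro n n' hs D D' hD hD' b
    rw [commutator_comp]
    refine isDiffOpLE_add ?_ ?_
    · cases n' with
      | zero => rw [(isDiffOpLE_zero_iff.1 hD') b, LinearMap.zero_comp]; exact isDiffOpLE_of_eq_zero t
      | succ m => exact ih n m (by omega) _ _ hD (hD' b)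
    · cases n with
      | zero => rw [(isDiffOpLE_zero_iff.1 hD) b, LinearMap.comp_zero]; exact isDiffOpLE_of_eq_zero t
      | succ m => exact ih m n' (by omega) _ _ (hD b) hD'

/-- the scalars `b` whose commutator with `D` has order at most `n` form a subalgebra -/
noncomputable def commAlg (n : ℕ) (D : M →ₗ[A] N) : Subalgebra A B where
  carrier := {b | IsDiffOpLE A B M N n (commutator A B M N D b)}
  mul_mem' := by
    intro b c hb hc
    simp only [Set.mem_setOf_eq] at *
    rw [commutator_mul_right]
    have h := isDiffOpLE_comp (isDiffOpLE_mulB (A := A) (M := M) c) hb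
    rw [zero_add] at h
    exact isDiffOpLE_add h (isDiffOpLE_smul _ hc)
  add_mem' := by
    intro b c hb hc
    simp only [Set.mem_setOf_eq] at *
    rw [commutator_add_right]; exact isDiffOpLE_add hb hc
  algebraMap_mem' := by
    intro a
    simp only [Set.mem_setOf_eq]
    rw [commutator_algebraMap]; exact isDiffOpLE_of_eq_zero n

theorem isDiffOpLE_succ_of_generators {s : Set B} (hs : Algebra.adjoin A s = ⊤) {n : ℕ}
    {D : M →ₗ[A] N} (hD : ∀ g ∈ s, IsDiffOpLE A B M N n (commutator A B M N D g)) :
    IsDiffOpLE A B M N (n + 1) D := by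
  intro b
  have hle : Algebra.adjoin A s ≤ commAlg n D := Algebra.adjoin_le hD
  rw [hs] at hle
  exact hle Algebra.mem_top

/-- alternating sum attached to a finite family of scalars -/
noncomputable def altSum {ι : Type*} [DecidableEq ι] (D : M →ₗ[A] N) (s : Finset ι) (b : ι → B)
    (t : M) : N :=
  ∑ H ∈ s.powerset, ((-1 : ℤ) ^ H.card) • ((∏ i ∈ H, b i) • D ((∏ i ∈ s \ H, b i) • t))

theorem altSum_insert {ι : Type*} [DecidableEq ι] (D : M →ₗ[A] N) {s : Finset ι} {a : ι}
    (ha : a ∉ s) (b : ι → B) (t : M) :
    altSum D (insert a s) b t = altSum (commutator A B M N D (b a)) s b t := by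
  rw [altSum, Finset.sum_powerset_insert ha, ← Finset.sum_add_distrib, altSum]
  refine Finset.sum_congr rfl fun H hH => ?_
  have hsub := Finset.mem_powerset.1 hH
  have haH : a ∉ H := fun h => ha (hsub h)
  have h1 : insert a s \ H = insert a (s \ H) := Finset.insert_sdiff_of_notMem _ haH
  have h2 : insert a s \ insert a H = s \ H := by
    ext x; simp only [Finset.mem_sdiff, Finset.mem_insert]
    constructor
    · rintro ⟨h | h, h'⟩ <;> tauto
    · rintro ⟨h, h'⟩
      exact ⟨Or.inr h, fun h'' => h''.elim (fun e => ha (e ▸ h)) h'⟩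
  have h3 : a ∉ s \ H := fun h => ha (Finset.mem_sdiff.1 h).1
  rw [h1, h2, Finset.card_insert_of_notMem haH, Finset.prod_insert h3, Finset.prod_insert haH,
    commutator_apply, pow_succ, mul_neg_one, neg_smul, smul_sub, smul_sub, mul_smul, mul_smul,
    sub_eq_add_neg, smul_comm (b a) (∏ i ∈ H, b i)]

theorem altSum_map {ι κ : Type*} [DecidableEq ι] [DecidableEq κ] (D : M →ₗ[A] N) (e : ι ↪ κ)
    (s : Finset ι) (b : κ → B) (t : M) :
    altSum D (s.map e) b t = altSum D s (fun i => b (e i)) t := by
  induction s using Finset.induction_on generalizing D with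
  | empty => simp [altSum]
  | insert a s ha ih =>
    rw [Finset.map_insert, altSum_insert D (by simpa using ha), altSum_insert D ha, ih]

theorem isDiffOpLE_iff_altSum (n : ℕ) (D : M →ₗ[A] N) :
    IsDiffOpLE A B M N n D ↔
      ∀ (b : Fin (n + 1) → B) (t : M), altSum D Finset.univ b t = 0 := by
  induction n generalizing D with
  | zero =>
    have key : ∀ (b : Fin 1 → B) (t : M),
        altSum D Finset.univ b t = commutator A B M N D (b 0) t := by
      intro b t
      rw [show (Finset.univ : Finset (Fin 1)) = insert 0 ∅ from rfl,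
        altSum_insert D (Finset.notMem_empty _)]
      simp [altSum]
    simp only [key]
    rw [isDiffOpLE_zero_iff]
    exact ⟨fun h b t => by rw [h (b 0)]; rfl,
      fun h c => LinearMap.ext fun t => h (fun _ => c) t⟩
  | succ n ih =>
    have key : ∀ (b : Fin (n + 2) → B) (t : M), altSum D Finset.univ b t =
        altSum (commutator A B M N D (b 0)) Finset.univ (fun i : Fin (n + 1) => b i.succ) t := by
      intro b t
      rw [Fin.univ_succ, Finset.cons_eq_insert, altSum_insert D (by simp), altSum_map]
      rfl
    constructor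
    · intro h b t; rw [key]; exact (ih _).1 (h (b 0)) _ t
    · intro h c
      refine (ih _).2 fun b t => ?_
      have h' := h (Fin.cons c b) t
      rw [key] at h'
      simpa using h'

theorem linearize_tmul (D : M →ₗ[A] N) (b : B) (m : M) :
    linearize A B M N D (b ⊗ₜ[A] m) = b • D m := rfl

end Groth.Agent.DiffOps
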