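import Mathlib.RingTheory.Etale.Basic
import Mathlib.RingTheory.TensorProduct.Maps
import Groth.Agent.DiffOps.Basic

/-! Universal differential operators and extension along formally étale algebras. -/

universe u

set_option linter.unusedSectionVars false

namespace Groth.Agent.DiffOps

open Diff16 TensorProduct

section universal
variable {R S : Type u} [CommRing R] [CommRing S] [Algebra R S]
variable {M : Type u} [AddCommGroup M] [Module S M] [Module R M] [IsScalarTower R S M]

theorem altSum_comp {N N' : Type u} [AddCommGroup N] [Module S N] [Module R N]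
    [IsScalarTower R S N] [AddCommGroup N'] [Module S N'] [Module R N'] [IsScalarTower R S N']
    (f : N →ₗ[S] N') (D : M →ₗ[R] N) {ι : Type} [DecidableEq ι] (s : Finset ι) (b : ι → S) (t : M) :
    altSum (f.restrictScalars R ∘ₗ D) s b t = f (altSum D s b t) := by
  rw [altSum, altSum, map_sum]
  exact Finset.sum_congr rfl fun H _ => by simp [map_zsmul]

theorem exists_universal (k : ℕ) :
    ∃ (P : Type u) (_ : AddCommGroup P) (_ : Module S P) (_ : Module R P) (_ : IsScalarTower R S P)
      (D : M →ₗ[R] P), IsDiffOpLE R S M P k D ∧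
        ∀ (N : Type u) [AddCommGroup N] [Module S N] [Module R N] [IsScalarTower R S N]
          (D' : M →ₗ[R] N),
          IsDiffOpLE R S M N k D' → ∃! α : P →ₗ[S] N, α.restrictScalars R ∘ₗ D = D' := by
  let D₀ : M →ₗ[R] S ⊗[R] M := TensorProduct.mk R S M 1
  let K : Submodule S (S ⊗[R] M) := Submodule.span S
    (Set.range fun x : (Fin (k + 1) → S) × M => altSum D₀ Finset.univ x.1 x.2)
  refine ⟨(S ⊗[R] M) ⧸ K, inferInstance, inferInstance, inferInstance, inferInstance,
    K.mkQ.restrictScalars R ∘ₗ D₀, ?_, ?_⟩
  · rw [isDiffOpLE_iff_altSum]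
    intro b t
    rw [altSum_comp, Submodule.mkQ_apply, Submodule.Quotient.mk_eq_zero]
    exact Submodule.subset_span ⟨(b, t), rfl⟩
  · intro N _ _ _ _ D' hD'
    let L : S ⊗[R] M →ₗ[S] N := D'.liftBaseChange S
    have hL : L.restrictScalars R ∘ₗ D₀ = D' := by ext m; simp [L, D₀]
    have hK : K ≤ LinearMap.ker L := by
      rw [Submodule.span_le]
      rintro _ ⟨⟨b, t⟩, rfl⟩
      rw [SetLike.mem_coe, LinearMap.mem_ker, ← altSum_comp, hL]
      exact (isDiffOpLE_iff_altSum k D').1 hD' b t
    refine ⟨K.liftQ L hK, ?_, fun β hβ => ?_⟩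
    · ext m; simpa [D₀] using LinearMap.congr_fun hL m
    · refine Submodule.linearMap_qext _ (TensorProduct.AlgebraTensorModule.ext fun s m => ?_)
      have h1 := LinearMap.congr_fun hβ m
      simp only [LinearMap.comp_apply, LinearMap.coe_restrictScalars, Submodule.mkQ_apply, D₀,
        TensorProduct.mk_apply] at h1
      have h2 : (s ⊗ₜ[R] m : S ⊗[R] M) = s • ((1 : S) ⊗ₜ[R] m) := by
        rw [TensorProduct.smul_tmul', smul_eq_mul, mul_one]
      simp only [LinearMap.comp_apply, Submodule.mkQ_apply, Submodule.liftQ_apply]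
      rw [h2, map_smul, Submodule.Quotient.mk_smul, map_smul, h1]
      simp [L]

end universal

section etale
variable {R S S' : Type u} [CommRing R] [CommRing S] [CommRing S'] [Algebra R S] [Algebra R S']
  [Algebra S S'] [IsScalarTower R S S']
variable {M N' : Type u} [AddCommGroup M] [Module S M] [Module R M] [IsScalarTower R S M]
  [AddCommGroup N'] [Module S N'] [Module S' N'] [Module R N'] [IsScalarTower R S N']
  [IsScalarTower R S' N'] [IsScalarTower S S' N']

/-- `b ⊗ u ↦ u • (F ∘ b)` -/
noncomputable def act (F : M →ₗ[R] N') : S ⊗[R] S' →ₗ[R] (M →ₗ[R] N') :=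
  TensorProduct.lift <| LinearMap.flip <| LinearMap.mk₂ R (fun (u : S') (b : S) => u • (F ∘ₗ mulB M b))
    (fun u u' b => add_smul u u' _) (fun c u b => smul_assoc c u _)
    (fun u b b' => by ext m; simp [add_smul])
    (fun c u b => by ext m; simp [smul_assoc, smul_comm c u])

theorem act_tmul (F : M →ₗ[R] N') (u : S') (b : S) (m : M) :
    act F (b ⊗ₜ[R] u) m = u • F (b • m) := rfl

theorem act_mul_gen (F : M →ₗ[R] N') (c : S) (x : S ⊗[R] S') :
    act F (x * (c ⊗ₜ[R] (1 : S') - (1 : S) ⊗ₜ[R] algebraMap S S' c)) =
      act (commutator R S M N' F c) x := by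
  induction x using TensorProduct.induction_on with
  | zero => simp
  | add x y hx hy => rw [add_mul, map_add, hx, hy, map_add]
  | tmul v u =>
    ext m
    simp [mul_sub, act_tmul, smul_sub, mul_smul, smul_comm c v]

theorem act_mul_right (F : M →ₗ[R] N') (b : S) (x : S ⊗[R] S') (m : M) :
    act F (x * (b ⊗ₜ[R] (1 : S'))) m = act F x (b • m) := by
  induction x using TensorProduct.induction_on with
  | zero => simp
  | add x y hx hy => simp [add_mul, hx, hy]
  | tmul v u => simp [act_tmul, mul_smul]

theorem act_mul_left (F : M →ₗ[R] N') (c : S') (x : S ⊗[R] S') (m : M) :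
    act F (((1 : S) ⊗ₜ[R] c) * x) m = c • act F x m := by
  induction x using TensorProduct.induction_on with
  | zero => simp
  | add x y hx hy => simp [mul_add, hx, hy]
  | tmul v u => simp [act_tmul, mul_smul]

variable (R S S') in
/-- multiplication `S ⊗[R] S' → S'` -/
noncomputable def mulHom : S ⊗[R] S' →ₐ[R] S' :=
  Algebra.TensorProduct.lift (IsScalarTower.toAlgHom R S S') (AlgHom.id R S')
    (fun _ _ => Commute.all _ _)

theorem ker_mulHom_le :
    RingHom.ker (mulHom R S S') ≤ Ideal.span (Set.range fun c : S =>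
      c ⊗ₜ[R] (1 : S') - (1 : S) ⊗ₜ[R] algebraMap S S' c) := by
  intro x hx
  suffices h : x - (1 : S) ⊗ₜ[R] mulHom R S S' x ∈ Ideal.span (Set.range fun c : S =>
      c ⊗ₜ[R] (1 : S') - (1 : S) ⊗ₜ[R] algebraMap S S' c) by
    rwa [RingHom.mem_ker.1 hx, TensorProduct.tmul_zero, sub_zero] at h
  clear hx
  induction x using TensorProduct.induction_on with
  | zero => simp
  | add x y hx hy =>
    rw [map_add, TensorProduct.tmul_add, add_sub_add_comm]; exact add_mem hx hy
  | tmul v u =>
    have : v ⊗ₜ[R] u - (1 : S) ⊗ₜ[R] mulHom R S S' (v ⊗ₜ[R] u) =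
        ((1 : S) ⊗ₜ[R] u) * (v ⊗ₜ[R] (1 : S') - (1 : S) ⊗ₜ[R] algebraMap S S' v) := by
      simp [mulHom, mul_sub, mul_comm u]
    rw [this]
    exact Ideal.mul_mem_left _ _ (Ideal.subset_span ⟨v, rfl⟩)

theorem act_eq_zero : ∀ (k : ℕ) (F : M →ₗ[R] N'), IsDiffOpLE R S M N' k F →
    ∀ x ∈ RingHom.ker (mulHom R S S') ^ (k + 1), act F x = 0 := by
  intro k
  induction k with
  | zero =>
    intro F hF x hx
    rw [pow_one] at hx
    have hx' := ker_mulHom_le hx
    clear hx
    have hzero : ∀ y : S ⊗[R] S', act (0 : M →ₗ[R] N') y = 0 := fun y => by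
      induction y using TensorProduct.induction_on with
      | zero => simp
      | add a b ha hb => rw [map_add, ha, hb, add_zero]
      | tmul v u => ext m; simp [act_tmul]
    suffices H : ∀ r, act F (r * x) = 0 by simpa using H 1
    induction hx' using Submodule.span_induction with
    | mem g hg =>
      obtain ⟨c, rfl⟩ := hg
      intro r
      rw [act_mul_gen, isDiffOpLE_zero_iff.1 hF c]; exact hzero r
    | zero => simp
    | add g g' _ _ hg hg' => intro r; rw [mul_add, map_add, hg r, hg' r, add_zero]
    | smul r g _ hg => intro r'; rw [smul_eq_mul, ← mul_assoc]; exact hg _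
  | succ k ih =>
    intro F hF x hx
    rw [pow_succ] at hx
    refine Submodule.mul_induction_on hx (fun p hp q hq => ?_) (fun p q hp hq => by simp [hp, hq])
    have hq' := ker_mulHom_le hq
    clear hq hx
    induction hq' using Submodule.span_induction generalizing p with
    | mem g hg =>
      obtain ⟨c, rfl⟩ := hg
      rw [act_mul_gen]; exact ih _ (hF c) p hp
    | zero => simp
    | add g g' _ _ hg hg' => rw [mul_add, map_add, hg p hp, hg' p hp, add_zero]
    | smul r g _ hg =>
      rw [smul_eq_mul, ← mul_assoc]; exact hg (p * r) (Ideal.mul_mem_right _ _ hp)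

theorem isDiffOpLE_restrictBase {M' L' : Type u} [AddCommGroup M'] [Module R M'] [Module S M']
    [Module S' M'] [IsScalarTower R S M'] [IsScalarTower R S' M'] [IsScalarTower S S' M']
    [AddCommGroup L'] [Module R L'] [Module S L'] [Module S' L'] [IsScalarTower R S L']
    [IsScalarTower R S' L'] [IsScalarTower S S' L'] {k : ℕ} {E : M' →ₗ[R] L'}
    (hE : IsDiffOpLE R S' M' L' k E) : IsDiffOpLE R S M' L' k E := by
  induction k generalizing E with
  | zero => intro b m; rw [← algebraMap_smul S' b m, hE, algebraMap_smul]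
  | succ k ih =>
    intro b
    have : commutator R S M' L' E b = commutator R S' M' L' E (algebraMap S S' b) := by ext m; simp
    rw [this]; exact ih (hE _)

theorem etale_unique [Algebra.FormallyUnramified S S']
    {L : Type u} [AddCommGroup L] [Module S L] [Module S' L] [Module R L] [IsScalarTower R S L]
    [IsScalarTower R S' L] [IsScalarTower S S' L] {k : ℕ} (E : S' ⊗[S] M →ₗ[R] L)
    (hE : IsDiffOpLE R S' (S' ⊗[S] M) L k E)
    (h : ∀ m, E ((1 : S') ⊗ₜ[S] m) = 0) : E = 0 := by
  have hlin : ∀ (k : ℕ) (E : S' ⊗[S] M →ₗ[R] L), IsDiffOpLE R S' (S' ⊗[S] M) L k E →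
      (∀ b : S, commutator R S' _ _ E (algebraMap S S' b) = 0) →
      ∀ c, commutator R S' _ _ E c = 0 := by
    intro k
    induction k with
    | zero => intro E hE _ c; exact isDiffOpLE_zero_iff.1 hE c
    | succ k ih =>
      intro E hE hb
      have hc : ∀ c e, commutator R S' _ _ (commutator R S' _ _ E c) e = 0 := fun c e =>
        ih _ (hE c) (fun b => by rw [commutator_comm, hb b]; exact commutator_zero_left c) e
      have hcomp : ∀ c e, commutator R S' _ _ E c ∘ₗ mulB (S' ⊗[S] M) e =
          e • commutator R S' _ _ E c := fun c e => LinearMap.ext fun x => by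
        exact sub_eq_zero.1 (LinearMap.congr_fun (hc c e) x)
      let δ : Derivation S S' (S' ⊗[S] M →ₗ[R] L) :=
        { toFun := fun c => commutator R S' _ _ E c
          map_add' := fun c e => commutator_add_right E c e
          map_smul' := fun b c => by
            rw [Algebra.smul_def b c, commutator_mul_right, hb b]
            ext x; simp
          map_one_eq_zero' := commutator_one E
          leibniz' := fun c e => by
            change commutator R S' _ _ E (c * e) =
              c • commutator R S' _ _ E e + e • commutator R S' _ _ E c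
            rw [commutator_mul_right, hcomp c e, add_comm] }
      intro c
      have h0 : δ.liftKaehlerDifferential (KaehlerDifferential.D S S' c) = δ c :=
        Derivation.liftKaehlerDifferential_comp_D δ c
      rw [Subsingleton.elim (KaehlerDifferential.D S S' c) 0, map_zero] at h0
      exact h0.symm
  induction k generalizing E with
  | zero =>
    refine LinearMap.ext fun x => ?_
    induction x using TensorProduct.induction_on with
    | zero => simp
    | add x y hx hy => simp [hx, hy]
    | tmul u m =>
      rw [show u ⊗ₜ[S] m = u • ((1 : S') ⊗ₜ[S] m) by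
        rw [TensorProduct.smul_tmul', smul_eq_mul, mul_one], hE u, h, smul_zero]
      rfl
  | succ k ih =>
    have hb : ∀ b : S, commutator R S' _ _ E (algebraMap S S' b) = 0 := fun b =>
      ih _ (hE _) fun m => by
        have := h (b • m)
        simp only [TensorProduct.tmul_smul] at this
        simp [algebraMap_smul, this, h]
    refine LinearMap.ext fun x => ?_
    induction x using TensorProduct.induction_on with
    | zero => simp
    | add x y hx hy => simp [hx, hy]
    | tmul u m =>
      have hu := LinearMap.congr_fun (hlin (k + 1) E hE hb u) ((1 : S') ⊗ₜ[S] m)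
      rw [show u ⊗ₜ[S] m = u • ((1 : S') ⊗ₜ[S] m) by
        rw [TensorProduct.smul_tmul', smul_eq_mul, mul_one]]
      simpa [h] using hu

theorem etale_exists [Algebra.FormallyEtale S S'] (k : ℕ) (F : M →ₗ[R] N')
    (hF : IsDiffOpLE R S M N' k F) :
    ∃ E : S' ⊗[S] M →ₗ[R] N', IsDiffOpLE R S' (S' ⊗[S] M) N' k E ∧
      ∀ m, E ((1 : S') ⊗ₜ[S] m) = F m := by
  classical
  set J := RingHom.ker (mulHom R S S') with hJ
  let π : (S ⊗[R] S') ⧸ J ^ (k + 1) →ₐ[S] S' :=
    { Ideal.Quotient.lift (J ^ (k + 1)) (mulHom R S S').toRingHom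
        (fun x hx => RingHom.mem_ker.1 (Ideal.pow_le_self (by omega) hx)) with
      commutes' := fun b => by
        change mulHom R S S' (b ⊗ₜ[R] (1 : S')) = _
        simp [mulHom] }
  have hπ : ∀ x, π (Ideal.Quotient.mk _ x) = mulHom R S S' x := fun x => rfl
  have hπs : Function.Surjective π := fun u =>
    ⟨Ideal.Quotient.mk _ (1 ⊗ₜ u), by rw [hπ]; simp [mulHom]⟩
  have hker : ∀ x, π x = 0 → x ∈ J.map (Ideal.Quotient.mk (J ^ (k + 1))) := fun x hx => by
    obtain ⟨y, rfl⟩ := Ideal.Quotient.mk_surjective x
    exact Ideal.mem_map_of_mem _ (RingHom.mem_ker.2 hx)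
  have hnil : IsNilpotent (RingHom.ker (π : (S ⊗[R] S') ⧸ J ^ (k + 1) →+* S')) := by
    have hle : RingHom.ker (π : (S ⊗[R] S') ⧸ J ^ (k + 1) →+* S') ≤
        J.map (Ideal.Quotient.mk (J ^ (k + 1))) := fun x hx => hker x (RingHom.mem_ker.1 hx)
    refine ⟨k + 1, le_bot_iff.1 ((Ideal.pow_right_mono hle (k + 1)).trans ?_)⟩
    rw [← Ideal.map_pow, Ideal.map_quotient_self]
  let j := Algebra.FormallySmooth.liftOfSurjective (AlgHom.id S S') π hπs hnil
  have hj : ∀ u, π (j u) = u := fun u =>
    Algebra.FormallySmooth.liftOfSurjective_apply _ _ _ _ u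
  choose lft hlft using fun u => Ideal.Quotient.mk_surjective (j u)
  have hwd : ∀ x y : S ⊗[R] S', x - y ∈ J ^ (k + 1) → act F x = act F y := fun x y hxy => by
    rw [← sub_eq_zero, ← map_sub]; exact act_eq_zero k F hF _ hxy
  -- the bilinear map `(u, m) ↦ F_{y * j u} m`
  have bil : ∀ y : S ⊗[R] S', ∃ G : S' ⊗[S] M →ₗ[R] N',
      ∀ u m, G (u ⊗ₜ[S] m) = act F (y * lft u) m := by
    intro y
    let g : S' →+ (M →+ N') :=
      AddMonoidHom.mk' (fun u => (act F (y * lft u)).toAddMonoidHom) fun u v => by
        have : act F (y * lft (u + v)) = act F (y * lft u) + act F (y * lft v) := by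
          rw [← map_add, ← mul_add]
          refine hwd _ _ ?_
          rw [← Ideal.Quotient.eq, map_mul, map_mul, map_add, hlft, hlft, hlft, map_add]
        ext m; exact LinearMap.congr_fun this m
    have hbal : ∀ (b : S) (u : S') (m : M), g (b • u) m = g u (b • m) := fun b u m => by
      change act F (y * lft (b • u)) m = act F (y * lft u) (b • m)
      rw [← act_mul_right]
      refine LinearMap.congr_fun (hwd _ _ ?_) m
      rw [← Ideal.Quotient.eq, map_mul, map_mul, map_mul, hlft, hlft, map_smul, Algebra.smul_def]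
      change Ideal.Quotient.mk _ y * (Ideal.Quotient.mk _ (b ⊗ₜ[R] (1 : S')) * j u) = _
      ring
    let G := TensorProduct.liftAddHom (R := S) g hbal
    have hG : ∀ u m, G (u ⊗ₜ[S] m) = act F (y * lft u) m := fun u m => rfl
    refine ⟨{ toFun := G, map_add' := G.map_add, map_smul' := fun r x => ?_ }, hG⟩
    induction x using TensorProduct.induction_on with
    | zero => simp
    | add a b ha hb => simp only [RingHom.id_apply, smul_add, map_add] at *; rw [ha, hb]
    | tmul u m =>
      rw [RingHom.id_apply, TensorProduct.smul_tmul', hG, hG]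
      have hr : act F (y * lft (r • u)) = act F (r • (y * lft u)) := by
        refine hwd _ _ ?_
        rw [← Ideal.Quotient.eq, map_mul, hlft, ← algebraMap_smul S r u, map_smul,
          Algebra.smul_def (A := (S ⊗[R] S') ⧸ J ^ (k + 1)), Algebra.smul_def r (y * lft u), map_mul,
          map_mul, hlft]
        change _ * (Ideal.Quotient.mk _ (algebraMap R S r ⊗ₜ[R] (1 : S')) * j u) = _
        rw [Algebra.TensorProduct.algebraMap_apply]
        ring
      rw [hr, map_smul]; rfl
  choose G hG using bil
  have hord : ∀ i, i ≤ k → ∀ y, y ∈ J ^ (k - i) → IsDiffOpLE R S' (S' ⊗[S] M) N' i (G y) := by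
    intro i
    have hcomm : ∀ (c : S') y, commutator R S' _ _ (G y) c =
        G (y * (lft c - (1 : S) ⊗ₜ[R] c)) := by
      intro c y
      refine LinearMap.ext fun x => ?_
      induction x using TensorProduct.induction_on with
      | zero => simp
      | add a b ha hb => rw [map_add, ha, hb, map_add]
      | tmul u m =>
        rw [commutator_apply, TensorProduct.smul_tmul', smul_eq_mul, hG, hG, hG,
          ← act_mul_left F c, ← LinearMap.sub_apply, ← map_sub]
        refine LinearMap.congr_fun (hwd _ _ ?_) m
        rw [← Ideal.Quotient.eq]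
        simp only [map_sub, map_mul, hlft]
        ring
    have hmem : ∀ c : S', lft c - (1 : S) ⊗ₜ[R] c ∈ J := fun c => by
      have h := hj c
      rw [← hlft, hπ] at h
      rw [hJ, RingHom.mem_ker, map_sub, h]
      simp [mulHom]
    induction i with
    | zero =>
      intro _ y hy
      rw [isDiffOpLE_zero_iff]
      intro c
      rw [hcomm]
      refine LinearMap.ext fun x => ?_
      induction x using TensorProduct.induction_on with
      | zero => simp
      | add a b ha hb => simp [ha, hb]
      | tmul u m =>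
        rw [hG, act_eq_zero k F hF _ (Ideal.mul_mem_right _ _ (by
          rw [pow_succ]; exact Ideal.mul_mem_mul hy (hmem c)))]
        rfl
    | succ i ih =>
      intro hi y hy c
      rw [hcomm]
      refine ih (by omega) _ ?_
      rw [show k - i = k - (i + 1) + 1 by omega, pow_succ]
      exact Ideal.mul_mem_mul hy (hmem c)
  refine ⟨G 1, hord k le_rfl 1 (by simp), fun m => ?_⟩
  rw [hG, one_mul, hwd (lft 1) 1 (by rw [← Ideal.Quotient.eq, hlft, map_one, map_one]),
    Algebra.TensorProduct.one_def, act_tmul, one_smul, one_smul]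

end etale

end Groth.Agent.DiffOps
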