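import Groth.Agent.DiffOps.Localize

/-! Differential operators into modules on which the denominators act invertibly. -/

universe u

set_option linter.unusedSectionVars false

namespace Groth.Agent.DiffOps

open Diff16

variable {A B : Type u} [CommRing A] [CommRing B] [Algebra A B]
variable {M M' N : Type u} [AddCommGroup M] [Module A M] [Module B M] [IsScalarTower A B M]
  [AddCommGroup M'] [Module A M'] [Module B M'] [IsScalarTower A B M']
  [AddCommGroup N] [Module A N] [Module B N] [IsScalarTower A B N]

/-- Operators out of a localisation are determined by their values on the original module. -/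
theorem eq_zero_of_comp_localization (S : Submonoid B) (ι : M →ₗ[B] M') [IsLocalizedModule S ι]
    (hN : ∀ s : S, Function.Bijective fun x : N => (s : B) • x) :
    ∀ (k : ℕ) (E : M' →ₗ[A] N), IsDiffOpLE A B M' N k E → (∀ m, E (ι m) = 0) → E = 0 := by
  have fin : ∀ (E : M' →ₗ[A] N), (∀ (s : S) x, E ((s : B) • x) = (s : B) • E x) → (∀ m, E (ι m) = 0) → E = 0 := by
    intro E hl h
    refine LinearMap.ext fun x => ?_
    obtain ⟨⟨m, s⟩, hs⟩ := IsLocalizedModule.surj S ι x
    refine (hN s).1 ?_
    have : (s : B) • x = ι m := hs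
    simp only [LinearMap.zero_apply, smul_zero]
    rw [← hl, this, h]
  intro k
  induction k with
  | zero => exact fun E hE h => fin E (fun s x => hE s x) h
  | succ k ih =>
    intro E hE h
    refine fin E (fun s x => ?_) h
    have := ih _ (hE s) fun m => by rw [commutator_apply, ← map_smul, h, h, smul_zero, sub_zero]
    exact sub_eq_zero.1 (LinearMap.congr_fun this x)

/-- An operator extends to the localisation. -/
theorem exists_localization (S : Submonoid B) (ι : M →ₗ[B] M') [IsLocalizedModule S ι]
    (hN : ∀ s : S, Function.Bijective fun x : N => (s : B) • x) (k : ℕ) (D : M →ₗ[A] N)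
    (hD : IsDiffOpLE A B M N k D) :
    ∃ E : M' →ₗ[A] N, IsDiffOpLE A B M' N k E ∧ ∀ m, E (ι m) = D m := by
  obtain ⟨E₀, ⟨hE₀, hc⟩, -⟩ := existsUnique_localized S k D hD
  haveI : IsLocalizedModule S (LinearMap.id : N →ₗ[B] N) :=
    ⟨fun s => (Module.End.isUnit_iff _).2 (hN s), fun y => ⟨⟨y, 1⟩, by simp⟩, fun {x y} h => ⟨1, by simpa using h⟩⟩
  let eM := IsLocalizedModule.iso S ι
  let eN := IsLocalizedModule.iso S (LinearMap.id : N →ₗ[B] N)
  refine ⟨(eN.toLinearMap.restrictScalars A) ∘ₗ (E₀ ∘ₗ eM.symm.toLinearMap.restrictScalars A), ?_, fun m => ?_⟩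
  · have h1 := isDiffOpLE_comp (isDiffOpLE_restrictScalars (A := A) eM.symm.toLinearMap)
      (isDiffOpLE_restrict (B := B) hE₀)
    rw [zero_add] at h1
    simpa using isDiffOpLE_comp h1 (isDiffOpLE_restrictScalars (A := A) eN.toLinearMap)
  · have h1 := LinearMap.congr_fun hc m
    simp only [LinearMap.comp_apply, LinearMap.coe_restrictScalars, LinearEquiv.coe_coe] at h1 ⊢
    rw [show eM.symm (ι m) = LocalizedModule.mkLinearMap S M m from
      eM.symm_apply_eq.2 (IsLocalizedModule.iso_apply_mk S ι m 1 |>.trans (IsLocalizedModule.mk'_one S ι m)).symm,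
      h1]
    exact (IsLocalizedModule.iso_apply_mk S (LinearMap.id : N →ₗ[B] N) (D m) 1).trans
      (IsLocalizedModule.mk'_one S _ (D m))

/-- Being an operator of bounded order passes to a localisation of the scalars. -/
theorem isDiffOpLE_extend {C : Type u} [CommRing C] [Algebra A C] [Algebra B C] [IsScalarTower A B C]
    (S : Submonoid B) [IsLocalization S C] [Module C M'] [Module C N]
    [IsScalarTower A C M'] [IsScalarTower A C N] [IsScalarTower B C M'] [IsScalarTower B C N] :
    ∀ (k : ℕ) (E : M' →ₗ[A] N), IsDiffOpLE A B M' N k E → IsDiffOpLE A C M' N k E := by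
  intro k
  induction k with
  | zero =>
    intro E hE c x
    obtain ⟨b, t, rfl⟩ := IsLocalization.exists_mk'_eq S c
    refine (IsLocalization.map_units C t).smul_left_cancel.1 ?_
    rw [algebraMap_smul, ← hE, ← algebraMap_smul C (t : B) (IsLocalization.mk' C b t • x), ← mul_smul,
      IsLocalization.mk'_spec', algebraMap_smul, hE, ← mul_smul, IsLocalization.mk'_spec', algebraMap_smul]
  | succ k ih =>
    intro E hE c
    obtain ⟨b, t, rfl⟩ := IsLocalization.exists_mk'_eq S c
    have hb : ∀ b : B, IsDiffOpLE A C M' N k (commutator A C M' N E (algebraMap B C b)) := fun b => by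
      have : commutator A C M' N E (algebraMap B C b) = commutator A B M' N E b := by ext x; simp
      rw [this]; exact ih _ (hE b)
    set u : C := IsLocalization.mk' C (1 : B) t with hu
    have hut : u * algebraMap B C (t : B) = 1 := by rw [hu, IsLocalization.mk'_spec, map_one]
    have hinv : commutator A C M' N E u = (-u) • (commutator A C M' N E (algebraMap B C (t : B)) ∘ₗ mulB M' u) := by
      have h0 := commutator_mul_right E u (algebraMap B C (t : B))
      rw [hut, commutator_one] at h0
      ext x
      have h2 := LinearMap.congr_fun h0 (u • x)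
      simp only [LinearMap.zero_apply, LinearMap.add_apply, LinearMap.comp_apply,
        LinearMap.coe_restrictScalars, LinearMap.lsmul_apply, LinearMap.smul_apply] at h2
      rw [← mul_smul, mul_comm (algebraMap B C (t : B)) u, hut, one_smul] at h2
      simp only [LinearMap.smul_apply, LinearMap.comp_apply, LinearMap.coe_restrictScalars,
        LinearMap.lsmul_apply, neg_smul]
      exact eq_neg_of_add_eq_zero_left h2.symm
    rw [IsLocalization.mk'_eq_mul_mk'_one, ← hu, commutator_mul_right]
    refine isDiffOpLE_add ?_ (isDiffOpLE_smul _ ?_)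
    · simpa using isDiffOpLE_comp (isDiffOpLE_mulB (A := A) (M := M') u) (hb b)
    · rw [hinv]
      exact isDiffOpLE_smul _ (by simpa using isDiffOpLE_comp (isDiffOpLE_mulB (A := A) (M := M') u) (hb t))

end Groth.Agent.DiffOps
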