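import Mathlib.Algebra.Module.LocalizedModule.Basic
import Groth.Agent.DiffOps.Basic

/-! Extension of differential operators to localisations. -/

universe u

set_option linter.unusedSectionVars false

namespace Groth.Agent.DiffOps

open Diff16

section
variable {A B : Type u} [CommRing A] [CommRing B] [Algebra A B]
variable {M N : Type u} [AddCommGroup M] [Module A M] [Module B M] [IsScalarTower A B M]
  [AddCommGroup N] [Module A N] [Module B N] [IsScalarTower A B N]

theorem commutator_comp_mulB (D : M →ₗ[A] N) (s b : B) :
    commutator A B M N (D ∘ₗ mulB M s) b = commutator A B M N D b ∘ₗ mulB M s := by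
  ext m; simp [smul_comm b s]

theorem comp_mulB_injective {s : B} (hs : Function.Bijective fun x : N => s • x) (k : ℕ)
    (D : M →ₗ[A] N) (hD : IsDiffOpLE A B M N k D) (h : D ∘ₗ mulB M s = 0) : D = 0 := by
  induction k generalizing D with
  | zero =>
    ext m
    refine hs.1 ?_
    have := LinearMap.congr_fun h m
    simp only [LinearMap.comp_apply, LinearMap.coe_restrictScalars, LinearMap.lsmul_apply,
      hD s m] at this
    simpa using this
  | succ k ih =>
    have hc : commutator A B M N D s = 0 := ih _ (hD s) (by
      rw [← commutator_comp_mulB, h, commutator_zero_left])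
    ext m
    refine hs.1 ?_
    have h1 := LinearMap.congr_fun h m
    have h2 := LinearMap.congr_fun hc m
    simp only [commutator_apply, LinearMap.zero_apply, LinearMap.comp_apply,
      LinearMap.coe_restrictScalars, LinearMap.lsmul_apply] at h1 h2
    rw [h1, zero_sub, neg_eq_zero] at h2
    simpa using h2

theorem comp_mulB_surjective {s : B} (hs : Function.Bijective fun x : N => s • x) (k : ℕ)
    (G : M →ₗ[A] N) (hG : IsDiffOpLE A B M N k G) :
    ∃ D : M →ₗ[A] N, IsDiffOpLE A B M N k D ∧ D ∘ₗ mulB M s = G := by
  let e : N ≃ₗ[B] N := LinearEquiv.ofBijective (LinearMap.lsmul B N s) hs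
  have he : ∀ x : N, s • e.symm x = x := fun x => e.apply_symm_apply x
  have h0 : IsDiffOpLE A B N N 0 (e.symm.toLinearMap.restrictScalars A) :=
    isDiffOpLE_restrictScalars _
  induction k generalizing G with
  | zero =>
    refine ⟨e.symm.toLinearMap.restrictScalars A ∘ₗ G, ?_, ?_⟩
    · simpa using isDiffOpLE_comp hG h0
    · ext m; simp only [LinearMap.comp_apply, LinearMap.coe_restrictScalars,
        LinearMap.lsmul_apply, LinearEquiv.coe_coe, hG s m]
      exact e.symm_apply_apply (G m)
  | succ k ih =>
    obtain ⟨H, hH, hHs⟩ := ih _ (hG s)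
    refine ⟨e.symm.toLinearMap.restrictScalars A ∘ₗ (G - H), ?_, ?_⟩
    · simpa using isDiffOpLE_comp (isDiffOpLE_sub hG (isDiffOpLE_succ hH)) h0
    · ext m
      have := LinearMap.congr_fun hHs m
      simp only [LinearMap.comp_apply, LinearMap.coe_restrictScalars, LinearMap.lsmul_apply,
        commutator_apply] at this
      simp only [LinearMap.comp_apply, LinearMap.coe_restrictScalars, LinearMap.lsmul_apply,
        LinearEquiv.coe_coe, LinearMap.sub_apply, this, sub_sub_cancel]
      exact e.symm_apply_apply (G m)

end

variable {A B : Type u} [CommRing A] [CommRing B] [Algebra A B] {S : Submonoid B}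
variable {M N : Type u} [AddCommGroup M] [Module A M] [Module B M] [IsScalarTower A B M]
  [AddCommGroup N] [Module A N] [Module B N] [IsScalarTower A B N]

theorem bijective_smul (S : Submonoid B) (s : S) :
    Function.Bijective fun x : LocalizedModule S N => (s : B) • x :=
  (Module.End.isUnit_iff _).1 (IsLocalizedModule.map_units (LocalizedModule.mkLinearMap S N) s)

/-- the operator `D` precomposed with the inverse of `s` -/
theorem exists_div (k : ℕ) (D : M →ₗ[A] LocalizedModule S N)
    (hD : IsDiffOpLE A B M (LocalizedModule S N) k D) (s : S) :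
    ∃ D' : M →ₗ[A] LocalizedModule S N,
      IsDiffOpLE A B M (LocalizedModule S N) k D' ∧ D' ∘ₗ mulB M (s : B) = D :=
  comp_mulB_surjective (bijective_smul S s) k D hD

noncomputable def divOp (k : ℕ) (D : M →ₗ[A] LocalizedModule S N)
    (hD : IsDiffOpLE A B M (LocalizedModule S N) k D) (s : S) : M →ₗ[A] LocalizedModule S N :=
  (exists_div k D hD s).choose

theorem divOp_spec (k : ℕ) (D : M →ₗ[A] LocalizedModule S N)
    (hD : IsDiffOpLE A B M (LocalizedModule S N) k D) (s : S) :
    IsDiffOpLE A B M (LocalizedModule S N) k (divOp k D hD s) ∧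
      divOp k D hD s ∘ₗ mulB M (s : B) = D :=
  (exists_div k D hD s).choose_spec

theorem divOp_mul (k : ℕ) (D : M →ₗ[A] LocalizedModule S N)
    (hD : IsDiffOpLE A B M (LocalizedModule S N) k D) (s t : S) (m : M) :
    divOp k D hD s m = divOp k D hD (s * t) ((t : B) • m) := by
  have h : divOp k D hD s = divOp k D hD (s * t) ∘ₗ mulB M (t : B) := by
    refine sub_eq_zero.1 (comp_mulB_injective (bijective_smul S s) k _
      (isDiffOpLE_sub (divOp_spec k D hD s).1 ?_) ?_)
    · simpa using isDiffOpLE_comp (isDiffOpLE_mulB (A := A) (M := M) (t : B))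
        (divOp_spec k D hD (s * t)).1
    · rw [LinearMap.sub_comp, (divOp_spec k D hD s).2, sub_eq_zero]
      conv_lhs => rw [← (divOp_spec k D hD (s * t)).2]
      ext x; simp [mul_smul, smul_comm (s : B)]
  rw [h]; rfl

theorem exists_extension (k : ℕ) (D : M →ₗ[A] LocalizedModule S N)
    (hD : IsDiffOpLE A B M (LocalizedModule S N) k D) :
    ∃ E : LocalizedModule S M →ₗ[A] LocalizedModule S N,
      ∀ (m : M) (s : S), E (LocalizedModule.mk m s) = divOp k D hD s m := by
  let f : LocalizedModule S M → LocalizedModule S N := fun x =>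
    LocalizedModule.liftOn x (fun p => divOp k D hD p.2 p.1) (by
      rintro ⟨m, s⟩ ⟨m', s'⟩ ⟨u, hu⟩
      simp only [Submonoid.smul_def] at hu
      rw [divOp_mul k D hD s (u * s') m, divOp_mul k D hD s' (u * s) m']
      rw [show s' * (u * s) = s * (u * s') by rw [mul_left_comm, mul_comm s' s, mul_left_comm]]
      congr 1
      simpa [mul_smul] using hu)
  have hf : ∀ m s, f (LocalizedModule.mk m s) = divOp k D hD s m := fun m s => rfl
  refine ⟨{ toFun := f, map_add' := ?_, map_smul' := ?_ }, hf⟩
  · intro x y
    induction x with | h m s => ?_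
    induction y with | h m' s' => ?_
    rw [LocalizedModule.mk_add_mk, hf, hf, hf, map_add, Submonoid.smul_def, Submonoid.smul_def,
      ← divOp_mul, mul_comm s s', ← divOp_mul]
  · intro a x
    induction x with | h m s => ?_
    rw [RingHom.id_apply, LocalizedModule.smul'_mk, hf, hf, map_smul]

theorem ext_of_comp {k : ℕ} {E : LocalizedModule S M →ₗ[A] LocalizedModule S N}
    (hE : IsDiffOpLE A B (LocalizedModule S M) (LocalizedModule S N) k E)
    (h : E ∘ₗ (LocalizedModule.mkLinearMap S M).restrictScalars A = 0) : E = 0 := by
  induction k generalizing E with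
  | zero =>
    ext x
    induction x with | h m s => ?_
    refine (bijective_smul S s).1 ?_
    have h1 := LinearMap.congr_fun h m
    simp only [LinearMap.comp_apply, LinearMap.coe_restrictScalars, LinearMap.zero_apply,
      LocalizedModule.mkLinearMap_apply] at h1
    simp only [LinearMap.zero_apply, smul_zero]
    rw [← hE, LocalizedModule.smul'_mk, ← Submonoid.smul_def, LocalizedModule.mk_cancel, h1]
  | succ k ih =>
    have hc : ∀ b, commutator A B _ _ E b = 0 := fun b => by
      refine ih (hE b) (LinearMap.ext fun m => ?_)
      have h1 : ∀ y : M, E (LocalizedModule.mk y 1) = 0 := fun y => LinearMap.congr_fun h y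
      simp [LocalizedModule.smul'_mk, h1]
    ext x
    induction x with | h m s => ?_
    refine (bijective_smul S s).1 ?_
    have h1 := LinearMap.congr_fun h m
    simp only [LinearMap.comp_apply, LinearMap.coe_restrictScalars, LinearMap.zero_apply,
      LocalizedModule.mkLinearMap_apply] at h1
    simp only [LinearMap.zero_apply, smul_zero]
    rw [← (isDiffOpLE_zero_iff (D := E)).2 hc, LocalizedModule.smul'_mk, ← Submonoid.smul_def,
      LocalizedModule.mk_cancel, h1]

theorem isDiffOpLE_extension : ∀ (k : ℕ) (D : M →ₗ[A] LocalizedModule S N)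
    (hD : IsDiffOpLE A B M (LocalizedModule S N) k D)
    (E : LocalizedModule S M →ₗ[A] LocalizedModule S N),
    (∀ (m : M) (s : S), E (LocalizedModule.mk m s) = divOp k D hD s m) →
    IsDiffOpLE A (Localization S) (LocalizedModule S M) (LocalizedModule S N) k E := by
  intro k
  induction k with
  | zero =>
    intro D hD E hE
    have hlin : ∀ (b : B) x, E (b • x) = b • E x := fun b x => by
      induction x with | h m s => ?_
      rw [LocalizedModule.smul'_mk, hE, hE, (divOp_spec 0 D hD s).1]
    intro c x
    obtain ⟨⟨b, t⟩, rfl⟩ := IsLocalization.mk'_surjective S c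
    refine (bijective_smul S t).1 ?_
    simp only
    rw [← hlin, ← algebraMap_smul (Localization S) (t : B) (IsLocalization.mk' _ b t • x),
      ← algebraMap_smul (Localization S) (t : B) (IsLocalization.mk' _ b t • E x), ← mul_smul,
      ← mul_smul, IsLocalization.mk'_spec', algebraMap_smul, algebraMap_smul, hlin]
  | succ k ih =>
    intro D hD E hE
    have hb : ∀ b : B, IsDiffOpLE A (Localization S) (LocalizedModule S M) (LocalizedModule S N) k
        (commutator A (Localization S) _ _ E (algebraMap B (Localization S) b)) := fun b => by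
      refine ih (commutator A B _ _ D b) (hD b) _ fun m s => ?_
      rw [commutator_apply, algebraMap_smul, algebraMap_smul, LocalizedModule.smul'_mk, hE, hE]
      have key : commutator A B _ _ (divOp (k + 1) D hD s) b =
          divOp k (commutator A B _ _ D b) (hD b) s := by
        refine sub_eq_zero.1 (comp_mulB_injective (bijective_smul S s) k _
          (isDiffOpLE_sub ((divOp_spec _ D hD s).1 b) (divOp_spec k _ (hD b) s).1) ?_)
        rw [LinearMap.sub_comp, ← commutator_comp_mulB, (divOp_spec _ D hD s).2,
          (divOp_spec k _ (hD b) s).2, sub_self]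
      rw [← key]; rfl
    intro c
    obtain ⟨⟨b, t⟩, rfl⟩ := IsLocalization.mk'_surjective S c
    show IsDiffOpLE A (Localization S) (LocalizedModule S M) (LocalizedModule S N) k
      (commutator A (Localization S) _ _ E (IsLocalization.mk' (Localization S) b t))
    set u : Localization S := IsLocalization.mk' (Localization S) (1 : B) t with hu
    rw [IsLocalization.mk'_eq_mul_mk'_one, ← hu, commutator_mul_right]
    have hinv : commutator A (Localization S) _ _ E u = -(u •
        (commutator A (Localization S) _ _ E (algebraMap B _ (t : B)) ∘ₗ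
          mulB (LocalizedModule S M) u)) := by
      have h0 := commutator_mul_right E u (algebraMap B (Localization S) (t : B))
      have hut : u * algebraMap B (Localization S) (t : B) = 1 := by
        rw [hu, IsLocalization.mk'_spec, map_one]
      rw [hut, commutator_one] at h0
      ext x
      have h2 := LinearMap.congr_fun h0 (u • x)
      simp only [LinearMap.zero_apply, LinearMap.add_apply, LinearMap.comp_apply,
        LinearMap.coe_restrictScalars, LinearMap.lsmul_apply, LinearMap.smul_apply] at h2
      rw [← mul_smul, mul_comm (algebraMap B (Localization S) (t : B)) u, hut, one_smul] at h2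
      simp only [LinearMap.neg_apply, LinearMap.smul_apply, LinearMap.comp_apply,
        LinearMap.coe_restrictScalars, LinearMap.lsmul_apply]
      exact eq_neg_of_add_eq_zero_left h2.symm
    refine isDiffOpLE_add ?_ (isDiffOpLE_smul _ ?_)
    · simpa using isDiffOpLE_comp (isDiffOpLE_mulB (A := A) (M := LocalizedModule S M) u) (hb b)
    · rw [hinv, ← zero_sub]
      exact isDiffOpLE_sub (isDiffOpLE_of_eq_zero k) (isDiffOpLE_smul u (by
        simpa using isDiffOpLE_comp (isDiffOpLE_mulB (A := A) (M := LocalizedModule S M) u) (hb t)))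

theorem isDiffOpLE_restrict {C : Type u} [CommRing C] [Algebra A C] [Algebra B C]
    [IsScalarTower A B C] {M' N' : Type u}
    [AddCommGroup M'] [Module A M'] [Module B M'] [Module C M'] [IsScalarTower A B M']
    [IsScalarTower A C M'] [IsScalarTower B C M']
    [AddCommGroup N'] [Module A N'] [Module B N'] [Module C N'] [IsScalarTower A B N']
    [IsScalarTower A C N'] [IsScalarTower B C N']
    {k : ℕ} {E : M' →ₗ[A] N'} (hE : IsDiffOpLE A C M' N' k E) : IsDiffOpLE A B M' N' k E := by
  induction k generalizing E with
  | zero => intro b m; rw [← algebraMap_smul C b m, hE, algebraMap_smul]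
  | succ k ih =>
    intro b
    have : commutator A B M' N' E b = commutator A C M' N' E (algebraMap B C b) := by ext m; simp
    rw [this]; exact ih (hE _)

theorem existsUnique_localized (S : Submonoid B) (k : ℕ) (D : M →ₗ[A] N)
    (hD : IsDiffOpLE A B M N k D) :
    ∃! E : LocalizedModule S M →ₗ[A] LocalizedModule S N,
      IsDiffOpLE A (Localization S) (LocalizedModule S M) (LocalizedModule S N) k E ∧
        E ∘ₗ (LocalizedModule.mkLinearMap S M).restrictScalars A =
          (LocalizedModule.mkLinearMap S N).restrictScalars A ∘ₗ D := by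
  have hD' : IsDiffOpLE A B M (LocalizedModule S N) k
      ((LocalizedModule.mkLinearMap S N).restrictScalars A ∘ₗ D) := by
    simpa using isDiffOpLE_comp hD (isDiffOpLE_restrictScalars (LocalizedModule.mkLinearMap S N))
  obtain ⟨E, hE⟩ := exists_extension k _ hD'
  have hcomp : E ∘ₗ (LocalizedModule.mkLinearMap S M).restrictScalars A =
      (LocalizedModule.mkLinearMap S N).restrictScalars A ∘ₗ D := by
    refine LinearMap.ext fun m => ?_
    have h2 := LinearMap.congr_fun (divOp_spec k _ hD' 1).2 m
    simp only [LinearMap.comp_apply, LinearMap.coe_restrictScalars, LinearMap.lsmul_apply,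
      OneMemClass.coe_one, one_smul, LocalizedModule.mkLinearMap_apply] at h2 ⊢
    rw [hE, h2]
  refine ⟨E, ⟨isDiffOpLE_extension k _ hD' E hE, hcomp⟩, fun E' hE' => ?_⟩
  refine sub_eq_zero.1 (ext_of_comp (k := k) (isDiffOpLE_restrict
    (isDiffOpLE_sub hE'.1 (isDiffOpLE_extension k _ hD' E hE))) ?_)
  rw [LinearMap.sub_comp, hE'.2, hcomp, sub_self]

end Groth.Agent.DiffOps
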